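import Cfsg.Agent.H619.R4.SporBase
import Cfsg.Agent.H187.Scheme.HN_m3
import Cfsg.Agent.KFacts.HN.Sheet
import Cfsg.Agent.FastGrp
import Cfsg.Agent.Prune
set_option linter.all false
prune_inst 0x7f00000000000000000000000000000000000000000000000000000000000000000000000000000000000000000000000000000000000000000000000000000000000000000000000000000000000000003fffffffffffffffffffffffffffbeffbdffffffff
open scoped Cfsg.Agent.FastGrp

/-!
# S4554: the row HN (helper494)

`G` with `F*(G) = N` the Harada-Norton group acts on the 1539000 cosets of `2.HS.2` in `N`; the nine subdegrees are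
distinct, so the nine orbitals are invariant, and helper38's `main_rat` gives the eight rational characters of the
degrees `1, 12749, 16929, 267520, 653125, 365750, 214016, 8910` of `G`.  `61` divides `12749` and not `|G|`: the others are
irreducible.
-/

set_option autoImplicit false
set_option maxRecDepth 10000

namespace Cfsg.Agent.H494.R4.HN

open Cfsg Cfsg.Agent.Characters.Core Cfsg.Agent.H443.HN.Scheme Cfsg.Agent.H443.HN.Frame Cfsg.Agent.HN.Distinct
  Cfsg.Agent.HN Cfsg.Agent.HN.DCover Cfsg.Agent.HN.NormalH Cfsg.Agent.HN.Index Cfsg.Agent.H187.Scheme.HN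
  Cfsg.Agent.H619.R4

universe u

/-- the group of the model -/
local notation "T" => Cfsg.Agent.H443.HN.Frame.G

/-! ### the model -/

theorem typ_w9 (i : Fin 9) : typ (w9 i) = i := by
  have h1 : w9 i = 1 * w9 i * 1 := by group
  rw [h1]
  exact typ_eq H.one_mem H.one_mem

theorem big (i : Fin 9) (hi : i ≠ 0) : ∃ j : Fin 9, 2 ≤ K j i := by
  have h1 : ∀ i : Fin 9, i ≠ 0 → ∃ j : Fin 9, 2 ≤ (![![0, 1408, 0, 0, 0, 0, 0, 0, 0], ![1, 53, 50, 450, 350, 504, 0, 0, 0],
    ![0, 32, 0, 32, 672, 0, 672, 0, 0], ![0, 18, 2, 100, 112, 504, 672, 0, 0],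
    ![0, 4, 12, 32, 160, 288, 552, 0, 360], ![0, 2, 0, 50, 100, 356, 650, 0, 250],
    ![0, 0, 2, 32, 92, 312, 720, 10, 240], ![0, 0, 0, 0, 0, 0, 1280, 128, 0],
    ![0, 0, 0, 0, 160, 320, 640, 0, 288]] : Fin 9 → Fin 9 → ℤ) j i := by decide
  obtain ⟨j, hj⟩ := h1 i hi
  exact ⟨j, by rw [Cfsg.Agent.H443.HN.Row.K_eq]; exact hj⟩

/-- A permutation of the points commuting with `T` is trivial. -/
theorem comm_trivial (z : Equiv.Perm V) (hz : ∀ (g : T) (x : V), z (g • x) = g • z x) : z = 1 := by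
  have hc : ∀ (g : T) (x : V), ty (g • x) (z (g • x)) = ty x (z x) := by
    intro g x
    rw [hz, ty_smul]
  set x0 : V := ((1 : T) : V) with hx0
  set i := ty x0 (z x0) with hi
  have huniq : ∀ y : V, ty x0 y = i → y = z x0 := by
    intro y hy
    obtain ⟨g, h1, h2⟩ := ty_trans x0 (z x0) x0 y (by rw [hy])
    rw [← h2, ← hz, h1]
  have hi0 : i = 0 := by
    by_contra hne
    obtain ⟨j, hj⟩ := big i hne
    have h1 : ty x0 ((w9 j : T) : V) = j := by
      rw [hx0, ty_mk, inv_one, one_mul, typ_w9]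
    have h2 := count x0 ((w9 j : T) : V) i
    rw [h1] at h2
    have h3 : (Finset.univ.filter fun y => ty x0 y = i ∧ ty ((w9 j : T) : V) y = 1).card ≤ 1 := by
      rw [Finset.card_le_one]
      intro a ha b hb
      rw [huniq a (Finset.mem_filter.1 ha).2.1, huniq b (Finset.mem_filter.1 hb).2.1]
    omega
  ext x
  obtain ⟨g, hg, -⟩ := ty_trans x0 x0 x x (by rw [(ty_zero _ _).2 rfl, (ty_zero _ _).2 rfl])
  have h1 := hc g x0
  rw [hg] at h1
  rw [Equiv.Perm.one_apply]
  exact ((ty_zero _ _).1 (h1.trans hi0)).symm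

/-- the permutation group of the model -/
def Q : Subgroup (Equiv.Perm V) := (MulAction.toPermHom T V).range

theorem toPerm_injective : Function.Injective (MulAction.toPermHom T V) := by
  rw [injective_iff_map_eq_one]
  intro t ht
  rcases (MonoidHom.normal_ker (MulAction.toPermHom T V)).eq_bot_or_eq_top with h | h
  · have : t ∈ (MulAction.toPermHom T V).ker := ht
    rw [h] at this
    exact this
  · exfalso
    have h1 : (Cfsg.Agent.HN.Pres.ht : T) ∈ (MulAction.toPermHom T V).ker := by rw [h]; exact Subgroup.mem_top _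
    have h2 : (Cfsg.Agent.HN.Pres.ht : T) • (((1 : T) : V)) = ((1 : T) : V) :=
      congrArg (fun w : Equiv.Perm V => w ((1 : T) : V)) h1
    have h3 : ty ((1 : T) : V) ((Cfsg.Agent.HN.Pres.ht : T) • (((1 : T) : V))) = 0 := by
      rw [h2, ty_zero]
    have h4 : (Cfsg.Agent.HN.Pres.ht : T) • (((1 : T) : V)) = ((w9 1 : T) : V) := by
      rw [w9_one]
      show ((Cfsg.Agent.HN.Pres.ht * 1 : T) : V) = _
      rw [mul_one]
    rw [h4, ty_mk, inv_one, one_mul, typ_w9] at h3
    exact absurd h3 (by decide)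

/-- the isomorphism with the model -/
noncomputable def φ : T ≃* Q := MonoidHom.ofInjective toPerm_injective

theorem φ_apply (t : T) (x : V) : (φ t : Equiv.Perm V) x = t • x := rfl

theorem cent_Q : Subgroup.centralizer (Q : Set (Equiv.Perm V)) = ⊥ := by
  rw [eq_bot_iff]
  intro z hz
  rw [Subgroup.mem_centralizer_iff] at hz
  rw [Subgroup.mem_bot]
  refine comm_trivial z fun g x => ?_
  have h1 := hz (φ g) (φ g).2
  exact (congrArg (fun w : Equiv.Perm V => w x) h1).symm

theorem sg_smul (a : MulAut T) (c : T) (hc : a X2 = c * X2 * c⁻¹) (g : T) (x : V) :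
    sgp a c hc (g • x) = a g • sgp a c hc x := by
  rw [sgp_apply, sgp_apply]
  induction x using QuotientGroup.induction_on with | H g' => ?_
  have h1 : g • ((g' : T) : V) = ((g * g' : T) : V) := rfl
  rw [h1, sg_mk a c hc, sg_mk a c hc]
  have h2 : a g • ((a g' * c : T) : V) = ((a g * (a g' * c) : T) : V) := rfl
  rw [h2, map_mul, mul_assoc]

/-- an automorphism of the permutation group, as an automorphism of the model -/
noncomputable def au (σ : MulAut Q) : MulAut T := (φ.trans σ).trans φ.symm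

theorem φ_au (σ : MulAut Q) (t : T) : φ (au σ t) = σ (φ t) := by
  show φ (φ.symm (σ (φ t))) = _
  rw [MulEquiv.apply_symm_apply]

theorem conj_sgp (σ : MulAut Q) (c : T) (hc : au σ X2 = c * X2 * c⁻¹) (x : Q) :
    ((σ x : Q) : Equiv.Perm V) = sgp (au σ) c hc * x * (sgp (au σ) c hc)⁻¹ := by
  obtain ⟨t, rfl⟩ := φ.surjective x
  rw [eq_mul_inv_iff_mul_eq, ← φ_au]
  ext v
  show au σ t • sgp (au σ) c hc v = sgp (au σ) c hc (t • v)
  rw [sg_smul]

theorem exists_perm (σ : MulAut Q) : ∃ p : Equiv.Perm V, ∀ x : Q, ((σ x : Q) : Equiv.Perm V) = p * x * p⁻¹ := by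
  obtain ⟨c, hc⟩ := Cfsg.Agent.H443.HN.Row.exists_conj (au σ)
  exact ⟨sgp (au σ) c hc, conj_sgp σ c hc⟩

/-- A permutation normalizing the model preserves the colours. -/
theorem ty_of_norm (p : Equiv.Perm V) (σ : MulAut Q) (h : ∀ x : Q, ((σ x : Q) : Equiv.Perm V) = p * x * p⁻¹) (x y : V) :
    ty (p x) (p y) = ty x y := by
  obtain ⟨c, hc⟩ := Cfsg.Agent.H443.HN.Row.exists_conj (au σ)
  have h1 : p = sgp (au σ) c hc := conj_uniq cent_Q fun x => by rw [← h, ← conj_sgp σ c hc]
  rw [h1]
  exact ty_sg (au σ) c hc x y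

/-! ### the characters of `G` -/

theorem card_T : Nat.card T = 273030912000000 := Cfsg.Agent.S1701.result.2

theorem core {G : Type u} [Group G] [Finite G] {N : Subgroup G} [N.Normal]
    (hC : Subgroup.centralizer (N : Set G) = ⊥) (hidx : N.index ≤ 2) (e : T ≃* N) : R3 G N := by
  classical
  obtain ⟨F, hF, hx, hg⟩ := exists_act hC cent_Q exists_perm (φ.symm.trans e)
  let _ : MulAction G V := MulAction.compHom V F
  have hsm : ∀ (g : G) (x : V), g • x = F g x := fun g x => rfl
  have hi : ∀ (q : T) (x : V), ((e q : N) : G) • x = q • x := by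
    intro q x
    have h1 := hx (φ q)
    have h2 : (φ.symm.trans e) (φ q) = e q := by
      show e (φ.symm (φ q)) = e q
      rw [MulEquiv.symm_apply_apply]
    rw [h2] at h1
    rw [hsm, h1, φ_apply]
  have hty : ∀ (g : G) (x y : V), ty (g • x) (g • y) = ty x y := by
    intro g x y
    refine ty_of_norm (F g) (((φ.symm.trans e).trans (MulAut.conjNormal g)).trans (φ.symm.trans e).symm) ?_ x y
    intro q
    exact hg g q
  have htr : ∀ x y x' y' : V, ty x y = ty x' y' → ∃ g : G, g • x = x' ∧ g • y = y' := by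
    intro x y x' y' h
    obtain ⟨t, h1, h2⟩ := ty_trans x y x' y' h
    exact ⟨(e t : N), by rw [hi, h1], by rw [hi, h2]⟩
  have := Fintype.ofFinite G
  obtain ⟨χ, M, h1, h2, -, h4, h5, h6, h7⟩ : ∃ (χ : Fin 8 → G → ℂ) (M : Fin 8 → Fin 8 → ℕ),
      (∀ s, IsCharacter G (χ s)) ∧ (∀ s, χ s 1 = nn s) ∧ (∀ g : G, ∑ s, χ s g = Nat.card (MulAction.fixedBy V g)) ∧
      (∀ s g, ∃ q : ℚ, χ s g = q) ∧ (∀ s t, classInner (χ s) (χ t) = M s t) ∧ (∀ s, 0 < M s s) ∧
      ∑ s, ∑ t, M s t ≤ 9 := by
    refine Cfsg.Agent.H38.K4.Scheme.main_rat (G := G) (ty := ty) (K := K) (i0 := 0) (i1 := 1) ty_zero ty_one count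
      hty htr L th ok _root_.Cfsg.Agent.H187.Scheme.HN.eig pp prod_eq pp_ne cc DD cp sum_eq DD_ne nn (fun s => ?_) nn_ne
    rw [Nat.card_eq_fintype_card, Cfsg.Agent.H443.HN.Row.card_V]
    exact nn_eq s
  have hirr : ∀ s, M s s = 1 → IsIrrCharacter G (χ s) := fun s h =>
    isIrr_of_classInner_self (h1 s) (by rw [h5, h, Nat.cast_one])
  have hNc : Nat.card N = 273030912000000 := (Nat.card_congr e.toEquiv).symm.trans card_T
  have hG : Nat.card G = 273030912000000 * N.index := by rw [← N.card_mul_index, hNc]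
  have h0 : N.index ≠ 0 := Subgroup.index_ne_zero_of_finite
  have hne : M 1 1 ≠ 1 := by
    intro h
    have h8 := Blocks.Knorr.charDegree_dvd (hirr 1 h)
    have h9 : charDegree (χ 1) = 12749 := Cfsg.Agent.Blocks.Basic.charDegree_of_eq (h2 1)
    rw [h9, hG] at h8
    have h10 : N.index = 1 ∨ N.index = 2 := by (clear * - hidx h0; omega)
    rcases h10 with h10 | h10
    · rw [h10] at h8
      revert h8
      norm_num
    · rw [h10] at h8
      revert h8
      norm_num
  have h11 : M 2 2 = 1 ∧ M 3 3 = 1 ∧ M 4 4 = 1 := by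
    simp only [Fin.sum_univ_eight] at h7
    have e0 := h6 0
    have e1 := h6 1
    have e2 := h6 2
    have e3 := h6 3
    have e4 := h6 4
    have e5 := h6 5
    have e6 := h6 6
    have e7 := h6 7
    omega
  have hRC : ∀ s, M s s = 1 → RC G (nn s) := by
    intro s hs
    refine RC.of_conj (χ := ⟨χ s, hirr s hs⟩) (fun g => ?_) (h2 s)
    obtain ⟨q, hq⟩ := h4 s g
    show (starRingEnd ℂ) (χ s g) = χ s g
    rw [hq]
    exact Complex.conj_ofReal q
  have hc := comm_of_index hidx
  exact ⟨16929, 267520, 653125, by decide, by decide, by decide, (hRC 2 h11.1).rd hc (by decide),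
    (hRC 3 h11.2.1).rd hc (by decide), (hRC 4 h11.2.2).rd hc (by decide)⟩

theorem index_le_two : (MulAut.conj : T →* MulAut T).range.index ≤ 2 := by
  rcases Cfsg.Agent.KFacts.HN.out_index with h | h
  · rw [h]
    norm_num
  · rw [h]

end Cfsg.Agent.H494.R4.HN

namespace Cfsg.Agent.H494.R4

universe u

/-- **The row HN.** -/
theorem row_hn {S : Type u} [Group S] (h : Cfsg.Spor.IsoHN S) : Cfsg.Agent.H619.R4.Row S := by
  obtain ⟨e⟩ := h
  intro G _ _ N _ ⟨f⟩ hC _
  have h1 : N.index ≤ 2 := Cfsg.Agent.H619.R4.index_le (e.symm.trans f) hC HN.index_le_two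
  exact HN.core hC h1 (e.symm.trans f)

end Cfsg.Agent.H494.R4
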